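import Groth.Agent.Zeta.K356.Hodge
import Groth.Agent.Dix.InterNum
import Groth.Agent.Dix.Cast5
import Groth.Agent.VarietyB.RestrSeq
import Groth.Agent.Picfga.SecGraph

/-!
# Intersection with an effective Cartier divisor which is an integral curve

* `form_ideal`: `(x · C) = deg (x|_C)` for an integral curve `C` on an integral proper surface whose ideal is
  effective Cartier.
* `effective_ideal`: `O(C)` has a nonzero section.
* `deg_ideal_point`: on a smooth proper curve the ideal of a rational point has degree `-1`.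
-/

set_option autoImplicit false
universe u
open CategoryTheory CategoryTheory.Limits AlgebraicGeometry Opposite TopologicalSpace

namespace Groth.Agent.Zeta.K356.Cut

open Groth.Agent Groth.Agent.Ega2 Groth.Agent.Fga.AltSum Groth.Agent.Fga.PicMon Groth.Agent.Fga.HodgeSec
  Groth.Agent.Fga.HodgeIneq Groth.Agent.Fga.HodgeForm Groth.Agent.Fga.HodgeAsm Groth.Agent.Fga

section Iso

variable {Z Z' W : Scheme.{u}}

theorem isEquivalence_push (e : Z ≅ Z') : (Scheme.Modules.pushforward e.hom).IsEquivalence := by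
  have h1 : Scheme.Modules.pushforward e.inv ⋙ Scheme.Modules.pushforward e.hom ≅ 𝟭 _ :=
    Scheme.Modules.pushforwardComp e.inv e.hom ≪≫ Scheme.Modules.pushforwardCongr e.inv_hom_id ≪≫
      Scheme.Modules.pushforwardId Z'
  have h2 : Scheme.Modules.pushforward e.hom ⋙ Scheme.Modules.pushforward e.inv ≅ 𝟭 _ :=
    Scheme.Modules.pushforwardComp e.hom e.inv ≪≫ Scheme.Modules.pushforwardCongr e.hom_inv_id ≪≫
      Scheme.Modules.pushforwardId Z
  exact (CategoryTheory.Equivalence.mk (Scheme.Modules.pushforward e.hom)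
    (Scheme.Modules.pushforward e.inv) h2.symm h1).isEquivalence_functor

/-- `M ≅ e_* e^* M`. -/
noncomputable def unitIso (e : Z ≅ Z') (M : Z'.Modules) :
    M ≅ (Scheme.Modules.pushforward e.hom).obj ((Scheme.Modules.pullback e.hom).obj M) := by
  have := isEquivalence_push e
  have : (Scheme.Modules.pullback e.hom).IsEquivalence :=
    (Scheme.Modules.pullbackPushforwardAdjunction e.hom).isEquivalence_left_of_isEquivalence_right
  exact asIso ((Scheme.Modules.pullbackPushforwardAdjunction e.hom).unit.app M)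

/-- `ι_* ι^* E ≅ i_* i^* E` if `i` and `ι` differ by an isomorphism of the sources. -/
theorem nonempty_pushPullIso (e : Z ≅ Z') (ι : Z' ⟶ W) (i : Z ⟶ W) (h : e.hom ≫ ι = i) (E : W.Modules) :
    Nonempty ((Scheme.Modules.pushforward ι).obj ((Scheme.Modules.pullback ι).obj E) ≅
      (Scheme.Modules.pushforward i).obj ((Scheme.Modules.pullback i).obj E)) := by
  subst h
  exact ⟨(Scheme.Modules.pushforward ι).mapIso (unitIso e ((Scheme.Modules.pullback ι).obj E)) ≪≫
    (Scheme.Modules.pushforwardComp e.hom ι).app _ ≪≫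
    (Scheme.Modules.pushforward (e.hom ≫ ι)).mapIso ((Scheme.Modules.pullbackComp e.hom ι).app E)⟩

end Iso

theorem tensor_inv {X : Scheme.{u}} {L M : X.Modules} (hL : PicF.IsInvertible L) (hM : PicF.IsInvertible M) :
    PicF.IsInvertible (CohB1.tensorMod L M) := by
  obtain ⟨L', hL', ⟨e⟩⟩ := Grpsch.PicGrp.exists_inverse hL
  obtain ⟨M', hM', ⟨e'⟩⟩ := Grpsch.PicGrp.exists_inverse hM
  refine S2122.result _ (CohB1.tensorMod L' M') (Nonempty.some ?_)
  rw [← mc_eq_iff, mc_tensor, mc_tensor, mc_tensor, mc_one]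
  have h1 : mc L * mc L' = 1 := by rw [← mc_tensor, ← mc_one]; exact mc_eq e
  have h2 : mc M * mc M' = 1 := by rw [← mc_tensor, ← mc_one]; exact mc_eq e'
  calc mc L * mc M * (mc L' * mc M') = mc L * mc L' * (mc M * mc M') := by
        rw [mul_assoc, mul_assoc, mul_left_comm (mc M)]
    _ = 1 := by rw [h1, h2, one_mul]

variable (k : Type u) [Field k]

/-- `χ(L) = χ(L ⊗ I_C) + χ(C, L|_C)`. -/
theorem euler_restrict {C Z : Scheme.{u}} [C.Over (Spec (CommRingCat.of k))] [Z.Over (Spec (CommRingCat.of k))]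
    [IsProper (Z ↘ Spec (CommRingCat.of k))] (hdim : topologicalKrullDim Z ≤ (2 : ℕ))
    (i : C ⟶ Z) [IsClosedImmersion i] (hi : i ≫ (Z ↘ Spec (CommRingCat.of k)) = C ↘ Spec (CommRingCat.of k))
    (hD : BlowUp.IsEffCartierIdeal i.ker) (L : Z.Modules) (hL : PicF.IsInvertible L) :
    FGA.eulerCharLE k Z L 2 = FGA.eulerCharLE k Z (CohB1.tensorMod L (ClSub.idealMod i.ker)) 2 +
      FGA.eulerCharLE k C ((Scheme.Modules.pullback i).obj L) 2 := by
  have : IsLocallyNoetherian Z := LocallyOfFiniteType.isLocallyNoetherian (Z ↘ (Spec (CommRingCat.of k)))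
  have hB := VarietyB.TensCoh.HasBases.of_isFinLocFreeOfRank (QCohLocal.isFinLocFreeOfRank_one_iff.2 hL)
  obtain ⟨e⟩ := nonempty_pushPullIso (asIso i.toImage) i.ker.subschemeι i i.toImage_imageι L
  have hI : PicF.IsInvertible (ClSub.idealMod i.ker) := Dix.IdealModCartier.isInvertible_idealMod hD
  have hcoh : ∀ {Y : Scheme.{u}} {M : Y.Modules}, PicF.IsInvertible M → Coh.IsCoh M := fun h =>
    S2329.isCoh_of_isInvertible h
  have h3 : Coh.IsCoh ((Coh.push i).obj ((Scheme.Modules.pullback i).obj L)) :=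
    S0019.result i _ (hcoh (Fdesc.LocGen.isInvertible_pullback i hL))
  have h4 := MultFinal.isAdd_euler k Z 2 hdim _ (VarietyB.RestrSeq.restrSeq_shortExact hB i.ker)
    (hcoh (tensor_inv hL hI)) (hcoh hL) (VarietyA.EulerFinite.isCoh_of_iso e.symm h3)
  have h5 : FGA.eulerCharLE k Z ((Scheme.Modules.pushforward i.ker.subschemeι).obj
      ((Scheme.Modules.pullback i.ker.subschemeι).obj L)) 2 =
      FGA.eulerCharLE k C ((Scheme.Modules.pullback i).obj L) 2 :=
    (euler_iso k Z e 2).trans (MultInt.euler_push k i hi _ 2)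
  rw [← h5]
  exact h4

theorem χCl_mc (Z : Scheme.{u}) [Z.Over (Spec (CommRingCat.of k))] (L : Z.Modules) :
    χCl Z k (mc L) = FGA.eulerCharLE k Z L 2 := by
  unfold χCl
  rw [chiCl_mc]
  exact euler_iso k Z (Tens.runit L) 2

/-- `(x · C) = deg (x|_C)`. -/
theorem form_ideal {C Z : Scheme.{u}} [C.Over (Spec (CommRingCat.of k))] [Z.Over (Spec (CommRingCat.of k))]
    [IsProper (Z ↘ Spec (CommRingCat.of k))] (hdim : topologicalKrullDim Z ≤ (2 : ℕ))
    [IsProper (C ↘ Spec (CommRingCat.of k))] [IsIntegral C] (hC : topologicalKrullDim C = 1)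
    (i : C ⟶ Z) [IsClosedImmersion i] (hi : i ≫ (Z ↘ Spec (CommRingCat.of k)) = C ↘ Spec (CommRingCat.of k))
    (hD : BlowUp.IsEffCartierIdeal i.ker) (x c : (MC Z)ˣ)
    (hc : mc (ClSub.idealMod i.ker) = ((c⁻¹ : (MC Z)ˣ) : MC Z)) (L : Z.Modules) (hL : PicF.IsInvertible L)
    (hx : mc L = (x : MC Z)) :
    form k Z x c = Curv2.deg k C ((Scheme.Modules.pullback i).obj L) 1 := by
  obtain ⟨L', hL', ⟨e⟩⟩ := Grpsch.PicGrp.exists_inverse hL
  have hx' : mc L' = ((x⁻¹ : (MC Z)ˣ) : MC Z) := by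
    have h2 : (x : MC Z) * mc L' = 1 := by rw [← hx, ← mc_tensor, ← mc_one]; exact mc_eq e
    calc mc L' = ((x⁻¹ : (MC Z)ˣ) : MC Z) * ((x : MC Z) * mc L') := by rw [← mul_assoc, Units.inv_mul, one_mul]
      _ = _ := by rw [h2, mul_one]
  have hone : PicF.IsInvertible (Coh.structureModule Z) := Fdesc.LocGen.isInvertible_structureModule
  have h1 := euler_restrict k hdim i hi hD L' hL'
  have h2 := euler_restrict k hdim i hi hD (Coh.structureModule Z) hone
  rw [← form_inv_inv k Z hdim]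
  unfold form
  rw [dSum_two, ← hx', ← hc, ← mc_tensor, χCl_mc, χCl_mc, χCl_mc, ← mc_one, χCl_mc, h1, h2,
    euler_iso k Z (Tens.lunit (ClSub.idealMod i.ker)) 2]
  obtain ⟨e1⟩ := Ega3B.PullTensor.nonempty_pullUnitIso i
  rw [euler_iso k C e1 2]
  have hCc : CompactSpace C := QuasiCompact.compactSpace_of_compactSpace (C ↘ (Spec (CommRingCat.of k)))
  have hCl : IsLocallyNoetherian C := LocallyOfFiniteType.isLocallyNoetherian (C ↘ (Spec (CommRingCat.of k)))
  have hCn : IsNoetherian C := {}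
  have hC2 : topologicalKrullDim C ≤ (2 : ℕ) := by rw [hC]; exact_mod_cast one_le_two
  rw [EulerLEAdd.eulerCharLE_eq_euler k C 2 hC2, EulerLEAdd.eulerCharLE_eq_euler k C 2 hC2]
  have h3 : Curv2.deg k C ((Scheme.Modules.pullback i).obj L) 1 =
      - Curv2.deg k C ((Scheme.Modules.pullback i).obj L') 1 :=
    Dix.InterNum.deg_inverse k C hC ⟨(Ega3B.PullTensor.pullTensorIso i hL hL').symm ≪≫
      (Scheme.Modules.pullback i).mapIso e ≪≫ e1⟩
  rw [h3, Curv2.deg]
  push_cast
  ring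

/-- `O(C)` has a nonzero section. -/
theorem effective_ideal {C Z : Scheme.{u}} [Z.Over (Spec (CommRingCat.of k))]
    [IsProper (Z ↘ Spec (CommRingCat.of k))] [IsIntegral Z]
    (i : C ⟶ Z) [IsClosedImmersion i] (hD : BlowUp.IsEffCartierIdeal i.ker) (hne : Set.range i ≠ Set.univ)
    (c : (MC Z)ˣ) (hc : mc (ClSub.idealMod i.ker) = ((c⁻¹ : (MC Z)ˣ) : MC Z)) : 0 < hCl Z k 0 c := by
  have hI : PicF.IsInvertible (ClSub.idealMod i.ker) := Dix.IdealModCartier.isInvertible_idealMod hD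
  obtain ⟨s, hs⟩ := Dix.Cast5.exists_section i hD
  have hJ := Grpsch.PicGrp.isInvertible_dual hI
  have hJc : mc (Grpsch.PicGrp.dual (ClSub.idealMod i.ker)) = (c : MC Z) := by
    have := Grpsch.PicGrp.isIso_ev hI
    have h2 : ((c⁻¹ : (MC Z)ˣ) : MC Z) * mc (Grpsch.PicGrp.dual (ClSub.idealMod i.ker)) = 1 := by
      rw [← hc, ← mc_tensor, ← mc_one]
      exact mc_eq (asIso (Grpsch.PicGrp.ev (ClSub.idealMod i.ker)))
    calc mc (Grpsch.PicGrp.dual (ClSub.idealMod i.ker)) =
        (c : MC Z) * (((c⁻¹ : (MC Z)ˣ) : MC Z) * mc (Grpsch.PicGrp.dual (ClSub.idealMod i.ker))) := by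
          rw [← mul_assoc, Units.mul_inv, one_mul]
      _ = _ := by rw [h2, mul_one]
  rw [← hJc, hCl_mc]
  refine Int.natCast_pos.mpr (HodgeSec.finrank_pos_of_ne_zero k hJ s ?_)
  rintro rfl
  obtain ⟨x, hx⟩ : ∃ x, x ∉ Set.range i := by
    by_contra h
    exact hne (Set.eq_univ_of_forall fun x => by_contra fun h' => h ⟨x, h'⟩)
  have hx' : x ∈ (CohB1.genLocus _ (0 : Coh.structureModule Z ⟶ Grpsch.PicGrp.dual (ClSub.idealMod i.ker)) : Set Z) := by
    rw [hs]; exact hx
  obtain ⟨U, hU, hgenU⟩ := (Fdesc.LocGen.mem_genLocus_iff _ _).mp hx'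
  have h5 : (1 : Γ(Z, U)) = 0 := by
    apply hgenU.ext
    have h6 : Fdesc.LocGen.sec (0 : Coh.structureModule Z ⟶ Grpsch.PicGrp.dual (ClSub.idealMod i.ker)) U = 0 := rfl
    rw [h6, smul_zero, smul_zero]
  have : Nonempty U := ⟨⟨_, hU⟩⟩
  exact one_ne_zero h5

/-- `h⁰` of a rational point. -/
theorem h0_id : Dix.InterNum.h0 (𝟙 (Spec (CommRingCat.of k))) = 1 := by
  let m1 : Module k Γ(Spec (CommRingCat.of k), ⊤) :=
    Module.compHom Γ(Spec (CommRingCat.of k), ⊤) (Dix.InterNum.glo (𝟙 (Spec (CommRingCat.of k))))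
  let E : Γ(Spec (CommRingCat.of k), ⊤) ≃+* k := (Scheme.ΓSpecIso (CommRingCat.of k)).commRingCatIsoToRingEquiv
  have hE : ∀ t : k, E (Dix.InterNum.glo (𝟙 (Spec (CommRingCat.of k))) t) = t := by
    intro t
    have : Dix.InterNum.glo (𝟙 (Spec (CommRingCat.of k))) t = E.symm t := by
      change Coh.toGlobal (𝟙 _) t = _
      simp [Coh.toGlobal, E]
      rfl
    rw [this, RingEquiv.apply_symm_apply]
  let e' : Γ(Spec (CommRingCat.of k), ⊤) ≃ₗ[k] k :=
    { E.toAddEquiv with
      map_smul' := fun t x => by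
        change E (Dix.InterNum.glo (𝟙 (Spec (CommRingCat.of k))) t * x) = t • E x
        rw [map_mul, hE, smul_eq_mul] }
  exact e'.finrank_eq.trans (Module.finrank_self k)

/-- The ideal of a rational point has degree `-1`. -/
theorem deg_ideal_point {C : Scheme.{u}} [C.Over (Spec (CommRingCat.of k))]
    [IsProper (C ↘ Spec (CommRingCat.of k))] [IsIntegral C] (hC : topologicalKrullDim C = 1)
    (x : Spec (CommRingCat.of k) ⟶ C) [IsClosedImmersion x] (hx : x ≫ (C ↘ Spec (CommRingCat.of k)) = 𝟙 _)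
    (hD : BlowUp.IsEffCartierIdeal x.ker) : Curv2.deg k C (ClSub.idealMod x.ker) 1 = -1 := by
  have hI : PicF.IsInvertible (ClSub.idealMod x.ker) := Dix.IdealModCartier.isInvertible_idealMod hD
  obtain ⟨L, hL, ⟨e⟩⟩ := Grpsch.PicGrp.exists_inverse hI
  have h1 := Dix.InterNum.deg_of_effCartier k C hC x.ker hD L ⟨Tens.swap _ _ ≪≫ e⟩
  have h2 := Dix.InterNum.deg_inverse k C hC (M := ClSub.idealMod x.ker) (N := L) ⟨e⟩
  rw [h2, h1, Dix.InterNum.finrank_quotMod, Dix.InterNum.h0_congr (x.ker.subschemeι ≫ (C ↘ (Spec (CommRingCat.of k))))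
    (𝟙 _) (asIso x.toImage).symm, h0_id]
  · rfl
  · rw [Category.comp_id, Iso.symm_hom, asIso_inv, IsIso.inv_eq_of_hom_inv_id]
    rw [← Category.assoc, x.toImage_imageι, hx]

end Groth.Agent.Zeta.K356.Cut
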