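import Groth.Prelude.Def_Curve
import Groth.Agent.Zeta.K356.Cut
import Groth.Agent.CycA.ProdDim
import Groth.Agent.S1582
import Groth.Agent.S10855
import Groth.Agent.Sga4B.RelSect
import Groth.Agent.Picfga.CurveRelDim

/-!
# The intersection form on a product of two curves

`C₁`, `C₂` smooth proper curves over an algebraically closed field, `S = C₁ × C₂`, `f₁ = O(C₁ × y)`,
`f₂ = O(x × C₂)`: `(f₁ · f₁) = (f₂ · f₂) = 0`, `(f₁ · f₂) = 1`, and the form
`(a · f₁)(b · f₂) + (a · f₂)(b · f₁) - (a · b)` is positive semi-definite (Castelnuovo–Severi).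
-/

set_option autoImplicit false
universe u
open CategoryTheory CategoryTheory.Limits AlgebraicGeometry Opposite TopologicalSpace

namespace Groth.Agent.Zeta.K356.Product

open Groth.Agent Groth.Agent.Ega2 Groth.Agent.Fga.AltSum Groth.Agent.Fga.PicMon Groth.Agent.Fga.HodgeSec
  Groth.Agent.Fga.HodgeIneq Groth.Agent.Fga.HodgeForm Groth.Agent.Fga.HodgeAsm Groth.Agent.Fga

open Groth.Agent.Zeta.K356 Groth.Agent.Grpsch

variable (k : Type u) [Field k]

/-- Pull back of the ideal of a fibre to a section of the second type. -/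
theorem pull_trivial {C Z : Scheme.{u}} (j : C ⟶ Z) (f : C ⟶ Spec (CommRingCat.of k)) (y : Spec (CommRingCat.of k) ⟶ Z)
    (h : j = f ≫ y) (L : Z.Modules) (hL : PicF.IsInvertible L) :
    Nonempty ((Scheme.Modules.pullback j).obj L ≅ Coh.structureModule C) := by
  subst h
  have h1 : PicGrp.pull (f ≫ y) (PicGrp.mk L hL) = 1 := by
    rw [PicGrp.pull_comp, PicGrp.pic_spec_local k (PicGrp.pull y (PicGrp.mk L hL)), map_one]
  rw [PicGrp.pull_mk] at h1
  exact (PicGrp.mk_eq_one_iff _).mp h1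

/-- The fibre square of a section. -/
theorem isPullback_fibre {C D : Scheme.{u}} (f : C ⟶ Spec (CommRingCat.of k)) (g : D ⟶ Spec (CommRingCat.of k))
    (y : Spec (CommRingCat.of k) ⟶ D) (hy : y ≫ g = 𝟙 _) {S : Scheme.{u}} {p : S ⟶ C} {q : S ⟶ D}
    (sq : IsPullback p q f g) (i : C ⟶ S) (hi₁ : i ≫ p = 𝟙 _) (hi₂ : i ≫ q = f ≫ y) : IsPullback f i y q := by
  refine IsPullback.of_bot (v₂₁ := p) (v₂₂ := g) (h₃₁ := f) ?_ hi₂.symm sq.flip
  rw [hi₁, hy]
  exact IsPullback.of_vert_isIso ⟨by simp⟩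

section Half

variable {C D : Scheme.{u}} {f : C ⟶ Spec (CommRingCat.of k)} {g : D ⟶ Spec (CommRingCat.of k)}
  [IsSeparated g] [IsSeparated f] [Flat f] [SmoothOfRelativeDimension 1 g]
  {y : Spec (CommRingCat.of k) ⟶ D} (hy : y ≫ g = 𝟙 _) {S : Scheme.{u}} {p : S ⟶ C} {q : S ⟶ D}
  (sq : IsPullback p q f g) {i : C ⟶ S} (hi₁ : i ≫ p = 𝟙 _) (hi₂ : i ≫ q = f ≫ y)

include sq hi₁ in
theorem isClosedImmersion_sec : IsClosedImmersion i := by
  have : IsSeparated p := MorphismProperty.of_isPullback sq.flip ‹IsSeparated g›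
  have : IsClosedImmersion (i ≫ p) := by rw [hi₁]; infer_instance
  exact IsClosedImmersion.of_comp _ p

include hy sq hi₁ hi₂ in
theorem ker_eq : i.ker = y.ker.comap q := by
  have := Sga4B.RelSect.isClosedImmersion_section g y hy
  exact Picfga.SecGraph.ker_eq_comap_of_isPullback (isPullback_fibre k f g y hy sq i hi₁ hi₂)

include hy sq hi₁ hi₂ in
theorem isEff : BlowUp.IsEffCartierIdeal i.ker := by
  have : Flat q := MorphismProperty.of_isPullback sq ‹Flat f›
  rw [ker_eq k hy sq hi₁ hi₂]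
  exact S10855.result q y.ker (Sga4B.RelSect.isEffCartierIdeal_ker g y hy)

include hy sq hi₁ hi₂ in
theorem nonempty_idealMod : Nonempty ((Scheme.Modules.pullback q).obj (ClSub.idealMod y.ker) ≅
    ClSub.idealMod i.ker) := by
  have h := Dix.IdealModCartier.pullback_idealMod q (Sga4B.RelSect.isEffCartierIdeal_ker g y hy)
    (by rw [← ker_eq k hy sq hi₁ hi₂]; exact isEff k hy sq hi₁ hi₂)
  rwa [← ker_eq k hy sq hi₁ hi₂] at h

include hy sq hi₁ hi₂ in
/-- `O(-F)|_F` is trivial. -/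
theorem restrict_self : Nonempty ((Scheme.Modules.pullback i).obj (ClSub.idealMod i.ker) ≅
    Coh.structureModule C) := by
  obtain ⟨e⟩ := nonempty_idealMod k hy sq hi₁ hi₂
  obtain ⟨e'⟩ := pull_trivial k (i ≫ q) f y hi₂ (ClSub.idealMod y.ker)
    (Dix.IdealModCartier.isInvertible_idealMod (Sga4B.RelSect.isEffCartierIdeal_ker g y hy))
  exact ⟨(Scheme.Modules.pullback i).mapIso e.symm ≪≫ (Scheme.Modules.pullbackComp i q).app _ ≪≫ e'⟩

include hy sq hi₁ hi₂ in
/-- `O(-F)` restricted to a section of `q` is the ideal of the point. -/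
theorem restrict_other (j : D ⟶ S) (hj : j ≫ q = 𝟙 _) :
    Nonempty ((Scheme.Modules.pullback j).obj (ClSub.idealMod i.ker) ≅ ClSub.idealMod y.ker) := by
  obtain ⟨e⟩ := nonempty_idealMod k hy sq hi₁ hi₂
  exact ⟨(Scheme.Modules.pullback j).mapIso e.symm ≪≫ (Scheme.Modules.pullbackComp j q).app _ ≪≫
    (Scheme.Modules.pullbackCongr hj).app _ ≪≫ (Scheme.Modules.pullbackId D).app _⟩

end Half

/-- The numerical data of a product of two curves. -/
structure Fibs (k : Type u) [Field k] (Z : Scheme.{u}) [Z.Over (Spec (CommRingCat.of k))] (a b : (MC Z)ˣ) : Prop where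
  aa : form k Z a a = 0
  bb : form k Z b b = 0
  ba : form k Z b a = 1
  eff : 0 < hCl Z k 0 ((a * b : (MC Z)ˣ) : MC Z)

section Forms

variable {Z : Scheme.{u}} [Z.Over (Spec (CommRingCat.of k))]
  [IsProper (Z ↘ Spec (CommRingCat.of k))] (hdim : topologicalKrullDim Z ≤ (2 : ℕ)) [IsIntegral Z]
  {a b : (MC Z)ˣ} (H : Fibs k Z a b)

/-- The defect form. -/
noncomputable def defect (a b x y : (MC Z)ˣ) : ℤ :=
  form k Z x a * form k Z y b + form k Z x b * form k Z y a - form k Z x y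

include hdim H in
/-- Castelnuovo–Severi. -/
theorem defect_nonneg (x : (MC Z)ˣ) : 0 ≤ defect k a b x x := by
  have h1 := Hodge.ineq_of_effective k Z hdim (a * b) (x * a ^ (- form k Z x b) * b ^ (- form k Z x a)) H.eff (by
    rw [form_mul_left k Z hdim, form_mul_right k Z hdim, form_mul_right k Z hdim, form_comm k Z a b, H.aa, H.bb, H.ba]
    norm_num)
  have e1 : form k Z (a * b) (a * b) = 2 := by
    rw [form_mul_left k Z hdim, form_mul_right k Z hdim, form_mul_right k Z hdim, form_comm k Z a b, H.aa, H.bb, H.ba]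
    norm_num
  have e2 : form k Z (a * b) (x * a ^ (- form k Z x b) * b ^ (- form k Z x a)) = 0 := by
    rw [form_mul_left k Z hdim]
    simp only [form_mul_right k Z hdim, form_zpow_right k Z hdim]
    rw [form_comm k Z a b, form_comm k Z a x, form_comm k Z b x, H.aa, H.bb, H.ba]
    ring
  have e3 : form k Z (x * a ^ (- form k Z x b) * b ^ (- form k Z x a)) (x * a ^ (- form k Z x b) * b ^ (- form k Z x a)) =
      form k Z x x - 2 * (form k Z x a * form k Z x b) := by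
    simp only [form_mul_right k Z hdim, form_mul_left k Z hdim, form_zpow_right k Z hdim, form_zpow_left k Z hdim]
    rw [form_comm k Z a b, form_comm k Z a x, form_comm k Z b x, H.aa, H.bb, H.ba]
    ring
  rw [e1, e2, e3] at h1
  unfold defect
  linarith

include hdim H in
theorem defect_cauchy (x y : (MC Z)ˣ) : defect k a b x y ^ 2 ≤ defect k a b x x * defect k a b y y := by
  refine Hodge.cauchy _ _ _ fun s t => ?_
  have h := defect_nonneg k hdim H (x ^ s * y ^ t)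
  have e : defect k a b (x ^ s * y ^ t) (x ^ s * y ^ t) =
      s ^ 2 * defect k a b x x + 2 * s * t * defect k a b x y + t ^ 2 * defect k a b y y := by
    unfold defect
    simp only [form_mul_right k Z hdim, form_mul_left k Z hdim, form_zpow_right k Z hdim, form_zpow_left k Z hdim]
    rw [form_comm k Z y x]
    ring
  rwa [e] at h

end Forms

/-- The product of two smooth proper curves: the fibre classes and their intersection numbers with invertible
modules. -/
theorem exists_fibs [IsAlgClosed k] (C₁ C₂ : Scheme.{u}) [C₁.Over (Spec (CommRingCat.of k))]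
    [C₂.Over (Spec (CommRingCat.of k))]
    (h₁ : Curve.IsSmoothProperCurve k C₁ (C₁ ↘ Spec (CommRingCat.of k)))
    (h₂ : Curve.IsSmoothProperCurve k C₂ (C₂ ↘ Spec (CommRingCat.of k)))
    (x : Spec (CommRingCat.of k) ⟶ C₁) (hx : x ≫ (C₁ ↘ Spec (CommRingCat.of k)) = 𝟙 _)
    (y : Spec (CommRingCat.of k) ⟶ C₂) (hy : y ≫ (C₂ ↘ Spec (CommRingCat.of k)) = 𝟙 _)
    {S : Scheme.{u}} [S.Over (Spec (CommRingCat.of k))] (p : S ⟶ C₁) (q : S ⟶ C₂)
    (sq : IsPullback p q (C₁ ↘ Spec (CommRingCat.of k)) (C₂ ↘ Spec (CommRingCat.of k)))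
    (hS : p ≫ (C₁ ↘ Spec (CommRingCat.of k)) = S ↘ Spec (CommRingCat.of k))
    (i₁ : C₁ ⟶ S) (hi₁ : i₁ ≫ p = 𝟙 C₁) (hi₁' : i₁ ≫ q = (C₁ ↘ Spec (CommRingCat.of k)) ≫ y)
    (i₂ : C₂ ⟶ S) (hi₂ : i₂ ≫ q = 𝟙 C₂) (hi₂' : i₂ ≫ p = (C₂ ↘ Spec (CommRingCat.of k)) ≫ x) :
    IsProper (S ↘ Spec (CommRingCat.of k)) ∧ IsIntegral S ∧ topologicalKrullDim S = (2 : ℕ) ∧
    ∃ a b : (MC S)ˣ, Fibs k S a b ∧ ∀ (L : S.Modules), PicF.IsInvertible L → ∀ z : (MC S)ˣ, mc L = (z : MC S) →
      form k S z a = Curv2.deg k C₁ ((Scheme.Modules.pullback i₁).obj L) 1 ∧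
      form k S z b = Curv2.deg k C₂ ((Scheme.Modules.pullback i₂).obj L) 1 := by
  have r1 : SmoothOfRelativeDimension 1 (C₁ ↘ Spec (CommRingCat.of k)) := by
    obtain ⟨_, _, _, h⟩ := h₁
    exact Picfga.CurveRelDim.smoothOfRelativeDimension_of_topologicalKrullDim_eq k C₁ _ 1 (by simpa using h)
  have r2 : SmoothOfRelativeDimension 1 (C₂ ↘ Spec (CommRingCat.of k)) := by
    obtain ⟨_, _, _, h⟩ := h₂
    exact Picfga.CurveRelDim.smoothOfRelativeDimension_of_topologicalKrullDim_eq k C₂ _ 1 (by simpa using h)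
  obtain ⟨_, _, _, d1⟩ := h₁
  obtain ⟨_, _, _, d2⟩ := h₂
  have hp : IsProper p := MorphismProperty.of_isPullback sq.flip ‹IsProper (C₂ ↘ Spec (CommRingCat.of k))›
  have hSp : IsProper (S ↘ Spec (CommRingCat.of k)) := by rw [← hS]; infer_instance
  have hint : IsIntegral (pullback (C₁ ↘ Spec (CommRingCat.of k)) (C₂ ↘ Spec (CommRingCat.of k))) :=
    S1582.result k C₁ C₂ _ _
  have hSi : IsIntegral S := by
    have : Nonempty S := ⟨i₁ (genericPoint C₁)⟩
    exact isIntegral_of_isOpenImmersion sq.isoPullback.hom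
  have hdim : topologicalKrullDim S = (2 : ℕ) := by
    obtain ⟨n, m, hn, hm, h⟩ := CycA.ProdDim.exists_dim_pullback (K := k) (C₁ ↘ Spec (CommRingCat.of k))
      (C₂ ↘ Spec (CommRingCat.of k))
    rw [d1] at hn
    rw [d2] at hm
    obtain rfl : n = 1 := by exact_mod_cast hn.symm
    obtain rfl : m = 1 := by exact_mod_cast hm.symm
    rw [← h]
    exact (Scheme.homeoOfIso sq.isoPullback).isHomeomorph.topologicalKrullDim_eq
  refine ⟨hSp, hSi, hdim, ?_⟩
  have hS' : q ≫ (C₂ ↘ Spec (CommRingCat.of k)) = S ↘ Spec (CommRingCat.of k) := by rw [← hS, sq.w]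
  have c1 : IsClosedImmersion i₁ := isClosedImmersion_sec k sq hi₁
  have c2 : IsClosedImmersion i₂ := isClosedImmersion_sec k sq.flip hi₂
  have e1 := isEff k hy sq hi₁ hi₁'
  have e2 := isEff k hx sq.flip hi₂ hi₂'
  have k1 : i₁ ≫ (S ↘ Spec (CommRingCat.of k)) = C₁ ↘ Spec (CommRingCat.of k) := by
    rw [← hS, ← Category.assoc, hi₁, Category.id_comp]
  have k2 : i₂ ≫ (S ↘ Spec (CommRingCat.of k)) = C₂ ↘ Spec (CommRingCat.of k) := by
    rw [← hS', ← Category.assoc, hi₂, Category.id_comp]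
  have I1 := Dix.IdealModCartier.isInvertible_idealMod e1
  have I2 := Dix.IdealModCartier.isInvertible_idealMod e2
  obtain ⟨J1, hJ1, E1⟩ := PicGrp.exists_inverse I1
  obtain ⟨J2, hJ2, E2⟩ := PicGrp.exists_inverse I2
  have u1 : mc (ClSub.idealMod i₁.ker) = (((unitOf _ _ E1)⁻¹⁻¹ : (MC S)ˣ) : MC S) := by rw [inv_inv]; rfl
  have u2 : mc (ClSub.idealMod i₂.ker) = (((unitOf _ _ E2)⁻¹⁻¹ : (MC S)ˣ) : MC S) := by rw [inv_inv]; rfl
  have F1 : ∀ (L : S.Modules), PicF.IsInvertible L → ∀ z : (MC S)ˣ, mc L = (z : MC S) →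
      form k S z (unitOf _ _ E1)⁻¹ = Curv2.deg k C₁ ((Scheme.Modules.pullback i₁).obj L) 1 :=
    fun L hL z hz => Cut.form_ideal k hdim.le d1 i₁ k1 e1 z _ u1 L hL hz
  have F2 : ∀ (L : S.Modules), PicF.IsInvertible L → ∀ z : (MC S)ˣ, mc L = (z : MC S) →
      form k S z (unitOf _ _ E2)⁻¹ = Curv2.deg k C₂ ((Scheme.Modules.pullback i₂).obj L) 1 :=
    fun L hL z hz => Cut.form_ideal k hdim.le d2 i₂ k2 e2 z _ u2 L hL hz
  have hinv : ∀ z w : (MC S)ˣ, form k S z⁻¹ w = - form k S z w := fun z w => by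
    rw [← zpow_neg_one, form_zpow_left k S hdim.le]; ring
  have x1 : IsClosedImmersion x := Sga4B.RelSect.isClosedImmersion_section _ x hx
  have n1 : Set.range i₁ ≠ Set.univ := by
    intro h
    have h3 : topologicalKrullDim S ≤ topologicalKrullDim C₁ := by
      let e : C₁ ≃ₜ (Set.univ : Set S) := i₁.isClosedEmbedding.isEmbedding.toHomeomorph.trans (Homeomorph.setCongr h)
      exact ((Homeomorph.Set.univ S).symm.trans e.symm).isInducing.topologicalKrullDim_le
    rw [hdim, d1] at h3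
    exact absurd h3 (by decide)
  have n2 : Set.range i₂ ≠ Set.univ := by
    intro h
    have h3 : topologicalKrullDim S ≤ topologicalKrullDim C₂ := by
      let e : C₂ ≃ₜ (Set.univ : Set S) := i₂.isClosedEmbedding.isEmbedding.toHomeomorph.trans (Homeomorph.setCongr h)
      exact ((Homeomorph.Set.univ S).symm.trans e.symm).isInducing.topologicalKrullDim_le
    rw [hdim, d2] at h3
    exact absurd h3 (by decide)
  refine ⟨(unitOf _ _ E1)⁻¹, (unitOf _ _ E2)⁻¹, ⟨?_, ?_, ?_, ?_⟩, fun L hL z hz => ⟨F1 L hL z hz, F2 L hL z hz⟩⟩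
  · rw [hinv, F1 _ I1 _ rfl]
    obtain ⟨e⟩ := restrict_self k hy sq hi₁ hi₁'
    rw [Dix.InterNum.deg_congr k C₁ d1 e, Dix.InterNum.deg_unit, neg_zero]
  · rw [hinv, F2 _ I2 _ rfl]
    obtain ⟨e⟩ := restrict_self k hx sq.flip hi₂ hi₂'
    rw [Dix.InterNum.deg_congr k C₂ d2 e, Dix.InterNum.deg_unit, neg_zero]
  · rw [hinv, F1 _ I2 _ rfl]
    obtain ⟨e⟩ := restrict_other k hx sq.flip hi₂ hi₂' i₁ hi₁
    rw [Dix.InterNum.deg_congr k C₁ d1 e, Cut.deg_ideal_point k d1 x hx (Sga4B.RelSect.isEffCartierIdeal_ker _ x hx)]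
    norm_num
  · have g1 := Cut.effective_ideal k i₁ e1 n1 _ u1
    have g2 := Cut.effective_ideal k i₂ e2 n2 _ u2
    exact lt_of_lt_of_le g2 (hCl_zero_le k _ _ g1)

end Groth.Agent.Zeta.K356.Product
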