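import Groth.Agent.Fga.HodgeAsm

/-!
# Hodge index inequalities for the intersection form on an integral proper surface

`form k Z x y` is the intersection form on the group of units of the class monoid of `Z` (classes of invertible modules).

* `ineq_of_effective`: `m² x² ≤ (m x)²` if `m` is effective and `m² > 0`.
* `ineq_of_ample`: the same for `m` the class of an ample module (`dim Z = 2`), together with `m² > 0`.
* `cauchy`: a positive semi-definite integral form satisfies the Cauchy–Schwarz inequality.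
-/

set_option autoImplicit false
universe u
open CategoryTheory CategoryTheory.Limits AlgebraicGeometry Opposite

namespace Groth.Agent.Zeta.K356.Hodge

open Groth.Agent Groth.Agent.Ega2 Groth.Agent.Fga.AltSum Groth.Agent.Fga.PicMon Groth.Agent.Fga.HodgeSec
  Groth.Agent.Fga.HodgeIneq Groth.Agent.Fga.HodgeForm Groth.Agent.Fga.HodgeAsm Groth.Agent.Fga

variable (k : Type u) [Field k] (Z : Scheme.{u}) [Z.Over (Spec (CommRingCat.of k))]
  [IsProper (Z ↘ Spec (CommRingCat.of k))] (hdim : topologicalKrullDim Z ≤ (2 : ℕ)) [IsIntegral Z]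

include hdim in
/-- `m² x² ≤ (m x)²` for `m` effective with `m² > 0`. -/
theorem ineq_of_effective (m x : (MC Z)ˣ) (hm : 0 < hCl Z k 0 m) (hmm : 0 < form k Z m m) :
    form k Z m m * form k Z x x ≤ form k Z m x * form k Z m x := by
  have h1 := ineq_units k hdim m x hm (by
    have := form_inv_inv k Z hdim m m
    unfold form at this hmm
    rw [this]; exact hmm)
  have e1 := form_inv_inv k Z hdim m m
  have e2 := form_inv_inv k Z hdim x x
  have e3 := form_inv_inv k Z hdim m x
  unfold form at e1 e2 e3 ⊢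
  rw [e1, e2, e3] at h1
  exact h1

include hdim in
/-- The same if only a positive power of `m` is effective. -/
theorem ineq_of_pow (m x : (MC Z)ˣ) (n : ℕ) (hn : 0 < n) (hm : 0 < hCl Z k 0 ((m ^ n : (MC Z)ˣ) : MC Z))
    (hmm : 0 < form k Z m m) :
    form k Z m m * form k Z x x ≤ form k Z m x * form k Z m x := by
  have e1 : form k Z (m ^ n) (m ^ n) = (n * n : ℤ) * form k Z m m := by
    rw [← zpow_natCast, form_zpow_left k Z hdim, form_zpow_right k Z hdim, mul_assoc]
  have e2 : form k Z (m ^ n) x = n * form k Z m x := by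
    rw [← zpow_natCast, form_zpow_left k Z hdim]
  have hn' : (0 : ℤ) < n := by exact_mod_cast hn
  have hnn : (0 : ℤ) < n * n := mul_pos hn' hn'
  have h := ineq_of_effective k Z hdim (m ^ n) x hm (by rw [e1]; exact mul_pos hnn hmm)
  rw [e1, e2] at h
  have h2 : ((n * n : ℤ)) * (form k Z m m * form k Z x x) ≤ (n * n : ℤ) * (form k Z m x * form k Z m x) := by
    calc ((n * n : ℤ)) * (form k Z m m * form k Z x x) = n * n * form k Z m m * form k Z x x := by ring
      _ ≤ n * form k Z m x * (n * form k Z m x) := h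
      _ = _ := by ring
  exact le_of_mul_le_mul_left h2 hnn

theorem mc_tensorPow {Z : Scheme.{u}} (A : Z.Modules) (n : ℕ) : mc (CohB1.tensorPow A n) = mc A ^ n := by
  induction n with
  | zero => rw [pow_zero]; exact mc_one
  | succ n ih => rw [pow_succ, ← ih, ← mc_tensor]; rfl

/-- Ample classes: `a² > 0` and `a² x² ≤ (a x)²`. -/
theorem ineq_of_ample (hdim : topologicalKrullDim Z = 2) {A : Z.Modules} (hA : CohB1.IsAmple A) (a x : (MC Z)ˣ)
    (ha : mc A = (a : MC Z)) :
    0 < form k Z a a ∧ form k Z a a * form k Z x x ≤ form k Z a x * form k Z a x := by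
  have hd : topologicalKrullDim Z ≤ (2 : ℕ) := hdim.le
  have hpos : ∀ {B : Z.Modules} (b : (MC Z)ˣ), CohB1.IsAmple B → mc B = (b : MC Z) → 0 < form k Z b b := by
    intro B b hB hb
    obtain ⟨B', hB', hBB'⟩ := Grpsch.PicGrp.exists_inverse hB.1
    have h1 : mc B' = ((b⁻¹ : (MC Z)ˣ) : MC Z) := by
      have h2 : (b : MC Z) * mc B' = 1 := by rw [← hb, ← mc_tensor, ← mc_one]; exact (mc_eq_iff _ _).mpr hBB'
      calc mc B' = ((b⁻¹ : (MC Z)ˣ) : MC Z) * ((b : MC Z) * mc B') := by rw [← mul_assoc, Units.inv_mul, one_mul]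
        _ = _ := by rw [h2, mul_one]
    have h3 : 0 < FGA.intNum k Z 2 ![B', B'] (Coh.structureModule Z) := by
      refine S3233.result k Z 2 hd ![B, B] ![B', B'] (fun j => by fin_cases j <;> exact hB)
        (fun j => by fin_cases j <;> exact hBB') (Coh.structureModule Z) (CurvesC.UnitCoh.isCoh_unit Z) ?_
      rw [support_unit]
      exact ((Homeomorph.Set.univ Z).isHomeomorph.topologicalKrullDim_eq).trans hdim
    rw [Groth.Agent.Fga.HodgeAsm.intNum_two k Z _ _ b⁻¹ b⁻¹ h1 h1, form_inv_inv k Z hd] at h3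
    exact h3
  refine ⟨hpos a hA ha, ?_⟩
  obtain ⟨n, hn, s, hs⟩ := HodgeMult.exists_section_pow hA (genericPoint Z) 1
  have hBamp : CohB1.IsAmple (CohB1.tensorPow A n) := Divis.NormAmple.isAmple_tensorPow hA (by omega)
  have hs0 : s ≠ 0 := by
    rintro rfl
    obtain ⟨U, hU, hgenU⟩ := (Fdesc.LocGen.mem_genLocus_iff _ _).mp hs
    have h5 : (1 : Γ(Z, U)) = 0 := by
      apply hgenU.ext
      have h6 : Fdesc.LocGen.sec (0 : Coh.structureModule Z ⟶ CohB1.tensorPow A n) U = 0 := rfl
      rw [h6, smul_zero, smul_zero]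
    have : Nonempty U := ⟨⟨_, hU⟩⟩
    exact one_ne_zero h5
  refine ineq_of_pow k Z hd a x n (by omega) ?_ (hpos a hA ha)
  rw [Units.val_pow_eq_pow_val, ← ha, ← mc_tensorPow, hCl_mc]
  exact_mod_cast HodgeSec.finrank_pos_of_ne_zero k hBamp.1 s hs0

/-- Cauchy–Schwarz for integers: if `s² p + 2 s t q + t² r ≥ 0` for all `s t`, then `q² ≤ p r`. -/
theorem cauchy (p q r : ℤ) (h : ∀ s t : ℤ, 0 ≤ s ^ 2 * p + 2 * s * t * q + t ^ 2 * r) : q ^ 2 ≤ p * r := by
  have hr : 0 ≤ r := by simpa using h 0 1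
  rcases hr.lt_or_eq with hr | hr
  · have h1 := h r (-q)
    have h2 : 0 ≤ r * (p * r - q ^ 2) := by nlinarith
    have h3 := nonneg_of_mul_nonneg_right h2 hr
    linarith
  · have h1 := h 1 (-(p + 1) * q)
    rw [← hr] at h1 ⊢
    have hp : 0 ≤ p := by simpa using h 1 0
    have h2 : 0 ≤ p - 2 * (p + 1) * q ^ 2 := by nlinarith
    have h3 : q ^ 2 ≤ 0 := by
      by_contra hneg
      have : 1 ≤ q ^ 2 := by omega
      nlinarith
    simpa using h3

end Groth.Agent.Zeta.K356.Hodge
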